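/-
The transpositions of the presented Fi24 as nodes of its table, and word tests.
-/
import Cfsg.Agent.H47.Fi24.Base
import Cfsg.Agent.H2.Fi23Three.Tree

set_option autoImplicit false
set_option maxRecDepth 100000

namespace H49.Order3.Fi24

open H93 H93.Coset
open H47.Fi24 (gen H L model gen_inv L_comm basePts baseOne baseOne_spec)
open H47.Fi24.Big (walkN walkN_eq)

abbrev Grp : Type := Cfsg.Spor.Fi24
abbrev Nd : Type := Fin H47.Fi24.Tab.data.n

/-- the value of a path -/
noncomputable abbrev fev (w : List ℕ) : Grp := ev gen w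

/-- a list of letters -/
def lettersOK (w : List ℕ) : Bool := w.all fun g => Nat.blt g 12

theorem lettersOK_spec {w : List ℕ} (h : lettersOK w = true) : ∀ g ∈ w, g < 12 := fun g hg =>
  Nat.le_of_ble_eq_true (List.all_eq_true.1 h g hg)

theorem lettersOK_append {u w : List ℕ} : lettersOK (u ++ w) = (lettersOK u && lettersOK w) := by
  simp [lettersOK]

theorem fev_append (u w : List ℕ) : fev (u ++ w) = fev w * fev u := ev_append gen u w

theorem fev_rev {w : List ℕ} (hw : lettersOK w = true) : fev w.reverse = (fev w)⁻¹ :=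
  ev_reverse gen (fun _ hg => gen_inv hg) w (lettersOK_spec hw)

theorem fev_replicate (u : List ℕ) (k : ℕ) : fev (List.replicate k u).flatten = fev u ^ k :=
  ev_expand gen u k

instance finite_grp : Finite Grp := by
  obtain ⟨K, -, -, -, h, -⟩ := H47.Fi24.facts
  exact h

theorem card_grp : Nat.card Grp = 306936 * (2 * 4089470473293004800) := by
  obtain ⟨K, -, -, -, -, h, -⟩ := H47.Fi24.facts
  rw [← H.index_mul_card, H47.Fi24.H_index, h]

/-- the action on the nodes -/
noncomputable abbrev act : Grp →* Equiv.Perm Nd := model.act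

theorem act_fev {w : List ℕ} (hw : lettersOK w = true) (c : Nd) :
    (act (fev w) c).val = walkN H47.Fi24.Tab.data.T w c.val := by
  rw [walkN_eq]; exact model.act_ev w (lettersOK_spec hw) c

/-- two paths have the same value, tested on the base -/
noncomputable def eqv (w u : List ℕ) : Bool :=
  lettersOK w && lettersOK u &&
    basePts.all fun p => Nat.beq (walkN H47.Fi24.Tab.data.T (w ++ u.reverse) p) p

theorem eqv_spec {w u : List ℕ} (h : eqv w u = true) : fev w = fev u := by
  simp only [eqv, Bool.and_eq_true, List.all_eq_true, walkN_eq, Nat.beq_eq] at h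
  obtain ⟨⟨hw, hu⟩, hp⟩ := h
  have hl : lettersOK (w ++ u.reverse) = true := by
    rw [lettersOK_append, hw, Bool.true_and]
    simp only [lettersOK, List.all_eq_true, List.mem_reverse]
    exact List.all_eq_true.1 hu
  have h1 : fev (w ++ u.reverse) = 1 := baseOne_spec (by
    simp only [baseOne, Bool.and_eq_true, List.all_eq_true, decide_eq_true_eq, Nat.beq_eq]
    exact ⟨lettersOK_spec hl, hp⟩)
  rw [fev_append, fev_rev hu] at h1
  exact (eq_of_inv_mul_eq_one h1).symm

/-- node zero -/
def pa : Nd := ⟨0, model.tables.pos⟩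

theorem mem_H_iff {a : Grp} : a ∈ H ↔ act a pa = pa := by
  rw [← model.fixSub_zero]
  constructor
  · exact fun h => h pa (by simp [pa])
  · intro h c hc
    obtain rfl : c = pa := Fin.ext (by simpa [pa] using hc)
    exact h

theorem H_le_cent : H ≤ Subgroup.centralizer ({L} : Set Grp) := by
  refine le_of_eq_of_le model.subgroup ((Subgroup.closure_le _).mpr ?_)
  rintro _ ⟨w, hw, rfl⟩
  obtain ⟨k, hk, rfl⟩ := (show ∀ w ∈ H47.Fi24.Tab.data.words.drop H47.Fi24.Tab.data.nrel, ∃ k < 11, w = [k] by
    decide +kernel) w hw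
  rw [SetLike.mem_coe, Subgroup.mem_centralizer_singleton_iff]
  simpa [ev] using (L_comm hk).eq

theorem path_moves : walkN H47.Fi24.Tab.data.T [11, 10] 1 ≠ walkN H47.Fi24.Tab.data.T [10, 11] 1 ∧
    walkN H47.Fi24.Tab.data.T [11, 8, 10, 11, 10] 1 ≠ walkN H47.Fi24.Tab.data.T [10, 11, 8, 10, 11] 1 ∧
    walkN H47.Fi24.Tab.data.T [11] 0 = 1 ∧ walkN H47.Fi24.Tab.data.T [11, 8, 10, 11] 0 = 8 ∧
    Nat.testBit H47.Fi24.Orb.mask1 0 = false ∧ Nat.testBit H47.Fi24.Orb.mask2 0 = false ∧
    Nat.testBit H47.Fi24.Orb.mask2 1 = false := by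
  decide +kernel

/-- the centraliser of the involution is the subgroup of the table -/
theorem cent_L : Subgroup.centralizer ({L} : Set Grp) = H := by
  refine le_antisymm (fun a ha => ?_) H_le_cent
  obtain ⟨c1, c2, p1, p2, m1, m2, m21⟩ := path_moves
  obtain ⟨o1, n1⟩ := model.orbit_eq_tree (show 1 < H47.Fi24.Tab.data.n by decide +kernel) H47.Fi24.Orb.self1
    H47.Fi24.Orb.tree1 H47.Fi24.Orb.closed1 H47.Fi24.Orb.count1
  obtain ⟨o2, n2⟩ := model.orbit_eq_tree (show 8 < H47.Fi24.Tab.data.n by decide +kernel) H47.Fi24.Orb.self2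
    H47.Fi24.Orb.tree2 H47.Fi24.Orb.closed2 H47.Fi24.Orb.count2
  set κ := cosetOf H47.Fi24.Tab.data gen H
  have hinj : Function.Injective κ := model.bijective.injective
  set n := act a pa
  have hκ : κ n = a • κ pa := model.act_apply a pa
  by_contra haH
  have hn : n ≠ pa := fun h => haH (mem_H_iff.2 h)
  -- a path to the node of the representative would centralise L
  have main : ∀ (w : List ℕ) (q : Nd), lettersOK w = true → walkN H47.Fi24.Tab.data.T w 0 = q.val →
      walkN H47.Fi24.Tab.data.T (w ++ [10]) 1 ≠ walkN H47.Fi24.Tab.data.T (10 :: w) 1 →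
      κ n ∈ MulAction.orbit H (κ q) → False := by
    intro w q hw hq hne horb
    have hq' : κ q ∈ MulAction.orbit (↥H) (κ n) := by
      rw [(MulAction.orbit_eq_iff (G := ↥H) (a := κ n) (b := κ q)).2 horb]
      exact MulAction.mem_orbit_self _
    obtain ⟨⟨b, hb⟩, hbq⟩ := hq'
    have e1 : act (b * a) pa = q := by
      refine hinj ((model.act_apply _ pa).trans ?_)
      rw [mul_smul, ← hκ]; exact hbq
    have e2 : (fev w)⁻¹ * (b * a) ∈ H := by
      rw [mem_H_iff, map_mul, map_inv, Equiv.Perm.mul_apply, e1, Equiv.Perm.inv_eq_iff_eq]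
      exact Fin.ext ((act_fev hw pa).trans hq).symm
    have e3 : fev w ∈ Subgroup.centralizer ({L} : Set Grp) := by
      have h := mul_mem (mul_mem (H_le_cent hb) ha) (inv_mem (H_le_cent e2))
      rwa [mul_inv_rev, inv_inv, mul_inv_cancel_left] at h
    have n1 : 1 < H47.Fi24.Tab.data.n := show 1 < 306936 by decide
    have hl1 : lettersOK (w ++ [10]) = true := by rw [lettersOK_append, hw]; rfl
    have hl2 : lettersOK (10 :: w) = true := by
      simp only [lettersOK, List.all_cons, Bool.and_eq_true] at hw ⊢; exact ⟨rfl, hw⟩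
    refine hne ?_
    rw [← act_fev hl1 ⟨1, n1⟩, ← act_fev hl2 ⟨1, n1⟩]
    congr 3
    rw [fev_append, show fev (10 :: w) = fev w * L from rfl]
    simpa [fev, ev] using (Subgroup.mem_centralizer_singleton_iff.1 e3).symm
  -- the three orbits fill the coset space
  have hsub : ({κ pa} ∪ κ '' {c : Nd | Nat.testBit H47.Fi24.Orb.mask1 c = true} ∪
      κ '' {c : Nd | Nat.testBit H47.Fi24.Orb.mask2 c = true} : Set (Grp ⧸ H)) = Set.univ := by
    refine Set.eq_of_subset_of_ncard_le (Set.subset_univ _) ?_ (Set.toFinite _)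
    rw [Set.ncard_univ, ← Subgroup.index_eq_card, H47.Fi24.H_index]
    rw [← o1, ← o2, Set.ncard_union_eq, Set.ncard_union_eq, Set.ncard_singleton, n1, n2]
    · rw [Set.disjoint_singleton_left, o1]
      rintro ⟨c, hc, he⟩
      rw [hinj he] at hc
      change Nat.testBit H47.Fi24.Orb.mask1 0 = true at hc
      rw [m1] at hc; exact Bool.false_ne_true hc
    · rw [Set.disjoint_union_left, Set.disjoint_singleton_left]
      refine ⟨?_, ?_⟩
      · rw [o2]
        rintro ⟨c, hc, he⟩
        rw [hinj he] at hc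
        change Nat.testBit H47.Fi24.Orb.mask2 0 = true at hc
        rw [m2] at hc; exact Bool.false_ne_true hc
      · refine Set.disjoint_left.2 fun z h1 h2 => ?_
        have e := (MulAction.orbit_eq_iff.2 h1).symm.trans (MulAction.orbit_eq_iff.2 h2)
        have h := MulAction.mem_orbit_self (M := H) (κ (⟨1, show 1 < 306936 by decide⟩ : Nd))
        rw [e, o2] at h
        obtain ⟨c, hc, he⟩ := h
        rw [hinj he] at hc
        change Nat.testBit H47.Fi24.Orb.mask2 1 = true at hc
        rw [m21] at hc; exact Bool.false_ne_true hc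
  rcases (hsub.symm ▸ Set.mem_univ (κ n) : _) with (h | h) | h
  · exact hn (hinj h)
  · exact main [11] ⟨1, show 1 < 306936 by decide⟩ rfl p1 c1 (o1.symm ▸ h)
  · exact main [11, 8, 10, 11] ⟨8, show 8 < 306936 by decide⟩ rfl p2 c2 (o2.symm ▸ h)

theorem act_surj (c : Nd) : ∃ w : Grp, act w pa = c := by
  obtain ⟨a, ha⟩ := MulAction.exists_smul_eq Grp (cosetOf H47.Fi24.Tab.data gen H pa)
    (cosetOf H47.Fi24.Tab.data gen H c)
  exact ⟨a, model.bijective.injective ((model.act_apply a pa).trans ha)⟩

/-- the class of transpositions -/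
def D0 : Set Grp := conjugatesOf L

/-- commuting with a transposition is fixing its node -/
theorem commute_iff_fix (x g : Grp) : Commute x (g * L * g⁻¹) ↔ act x (act g pa) = act g pa := by
  have key : Commute x (g * L * g⁻¹) ↔ g⁻¹ * x * g ∈ H := by
    rw [← cent_L, Subgroup.mem_centralizer_singleton_iff]
    constructor
    · intro h
      calc g⁻¹ * x * g * L = g⁻¹ * (x * (g * L * g⁻¹)) * g := by group
        _ = L * (g⁻¹ * x * g) := by rw [h.eq]; group
    · intro h
      show _ = _
      calc x * (g * L * g⁻¹) = g * (g⁻¹ * x * g * L) * g⁻¹ := by group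
        _ = g * L * g⁻¹ * x := by rw [h]; group
  rw [key, mem_H_iff, map_mul, map_mul, map_inv, Equiv.Perm.mul_apply, Equiv.Perm.mul_apply,
    Equiv.Perm.inv_eq_iff_eq]

/-- fixing no node is centralising no transposition -/
theorem fixed_empty {x : Grp} (h : ∀ c : Nd, act x c ≠ c) :
    D0 ∩ (Subgroup.centralizer (Subgroup.zpowers x : Set Grp) : Set Grp) = ∅ := by
  rw [Set.eq_empty_iff_forall_notMem]
  rintro z ⟨hz, hzc⟩
  obtain ⟨g, rfl⟩ := isConj_iff.1 (show IsConj L z from hz)
  exact h _ ((commute_iff_fix x g).1 (Subgroup.mem_centralizer_iff.1 hzc x (Subgroup.mem_zpowers x)))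

/-- fixing a node gives a transposition in the centraliser -/
theorem fixed_nonempty {x : Grp} {c : Nd} (h : act x c = c) :
    (D0 ∩ (Subgroup.centralizer (Subgroup.zpowers x : Set Grp) : Set Grp)).Nonempty := by
  obtain ⟨g, rfl⟩ := act_surj c
  refine ⟨g * L * g⁻¹, isConj_iff.2 ⟨g, rfl⟩, Subgroup.mem_centralizer_iff.2 fun y hy => ?_⟩
  obtain ⟨k, rfl⟩ := Subgroup.mem_zpowers_iff.1 hy
  exact (((commute_iff_fix x g).2 h).zpow_left k).eq

end H49.Order3.Fi24
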