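/-
Certificates for classes in a finite 3-group, checked on a small set of points.
-/
import Cfsg.Agent.H2.Fi23Three.Tree
import Cfsg.Agent.H47.Fi24.Big
import Cfsg.Agent.H49.Order3.Fi24.Data.Om

set_option autoImplicit false

namespace H49.Order3.Fi24

open H2.Fi23Three (Rules sameList)
open H47.Fi24.Big (walkN)

/-- a certificate for one coset of a term of the series -/
inductive Cert : Type
  | leaf (idx : ℕ) : Cert
  | prune (d : List ℕ) : Cert
  | fuse (c : List ℕ) (a : ℕ) (r : List ℕ) (next : Cert) : Cert
  | split (t0 t1 t2 : Cert) : Cert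

/-- two products of generators agree on the base -/
noncomputable def sameB (w u : List ℕ) : Bool :=
  w.all (fun k => Nat.blt k 16) && u.all (fun k => Nat.blt k 16) &&
    baseIdx.all fun j => Nat.beq (walkN step w j) (walkN step u j)

/-- the checker -/
noncomputable def certOK (LS : List (List ℕ)) : Cert → List ℕ → Bool
  | .leaf idx, v => Nat.beq v.length 16 &&
      (v.all (fun e => Nat.beq e 0) || (Nat.blt idx LS.length && sameList (LS.getD idx []) v))
  | .prune d, v =>
      Nat.ble v.length 16 && Nat.beq d.length 16 && d.all (fun e => Nat.blt e 3) &&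
        (d.take v.length).any (fun e => !(Nat.beq e 0)) &&
        sameB (Rules.pre v ++ (Rules.pre v ++ Rules.pre v)) (Rules.word 0 d)
  | .fuse c a r next, v =>
      Nat.blt v.length 16 && c.all (fun k => Nat.blt k 16) && (Nat.beq a 1 || Nat.beq a 2) &&
        r.all (fun k => Nat.blt v.length k && Nat.blt k 16) &&
        sameB (Rules.pre v ++ c) (c ++ (Rules.pre (v ++ [a]) ++ r)) &&
        certOK LS next (v ++ [0])
  | .split t0 t1 t2, v =>
      Nat.blt v.length 16 && certOK LS t0 (v ++ [0]) && certOK LS t1 (v ++ [1]) &&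
        certOK LS t2 (v ++ [2])

variable {LS : List (List ℕ)} {v : List ℕ}

theorem split_ok {t0 t1 t2 : Cert} (hv : Nat.blt v.length 16 = true)
    (h0 : certOK LS t0 (v ++ [0]) = true) (h1 : certOK LS t1 (v ++ [1]) = true)
    (h2 : certOK LS t2 (v ++ [2]) = true) : certOK LS (.split t0 t1 t2) v = true := by
  simp only [certOK, hv, h0, h1, h2, Bool.and_self]

theorem fuse_ok {c : List ℕ} {a : ℕ} {r : List ℕ} {next : Cert}
    (hv : (Nat.blt v.length 16 && c.all (fun k => Nat.blt k 16) && (Nat.beq a 1 || Nat.beq a 2) &&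
      r.all (fun k => Nat.blt v.length k && Nat.blt k 16) &&
      sameB (Rules.pre v ++ c) (c ++ (Rules.pre (v ++ [a]) ++ r))) = true)
    (h : certOK LS next (v ++ [0]) = true) : certOK LS (.fuse c a r next) v = true := by
  rw [certOK, h, Bool.and_true]
  exact hv

end H49.Order3.Fi24
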