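/-
A Sylow 3-subgroup of the presented Fi24 with its central series.
-/
import Cfsg.Agent.H49.Order3.Fi24.Basic
import Cfsg.Agent.H49.Order3.Fi24.Data.PC

set_option autoImplicit false
set_option maxRecDepth 100000

namespace H49.Order3.Fi24

open H93 H93.Coset
open H47.Fi24.Big (walkN)
open H2.Fi23Three (Rules val val_cons val_nil Holds Good Lev val_mem_lev)

/-- the path word of a product of generators -/
def flatI (w : List ℕ) : List ℕ := (w.map fun i => pcWords.getD i []).flatten

/-- the generators -/
noncomputable def pc (i : ℕ) : Grp := (fev (pcWords.getD i []))⁻¹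

theorem pc_letters_all : pcWords.all lettersOK = true := by decide +kernel

theorem pc_letters (i : ℕ) : lettersOK (pcWords.getD i []) = true := by
  rw [List.getD_eq_getElem?_getD]
  cases h : pcWords[i]? with
  | none => rfl
  | some w => exact List.all_eq_true.1 pc_letters_all w (List.mem_of_getElem? h)

theorem flatI_letters : ∀ w, lettersOK (flatI w) = true
  | [] => rfl
  | a :: w => by
      rw [show flatI (a :: w) = pcWords.getD a [] ++ flatI w by simp [flatI], lettersOK_append,
        pc_letters, flatI_letters w]
      rfl

theorem val_eq : ∀ w, val pc w = (fev (flatI w))⁻¹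
  | [] => by simp [flatI, fev, ev]
  | a :: w => by
      rw [val_cons, val_eq w, show flatI (a :: w) = pcWords.getD a [] ++ flatI w by simp [flatI],
        fev_append, mul_inv_rev, pc]

/-- the check of the power rules -/
noncomputable def cubeOK (i : ℕ) : Bool := eqv (flatI [i, i, i]) (flatI (rulesData.cube i))

/-- the check of one conjugation rule -/
noncomputable def conjOK (i j : ℕ) : Bool :=
  eqv ((pcWords.getD i []).reverse ++ pcWords.getD j [] ++ pcWords.getD i []) (flatI (rulesData.conj i j))

/-- the check of the conjugation rules of one generator -/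
noncomputable def rowOK3 (i : ℕ) : Bool :=
  (List.range 16).all fun j => !(Nat.blt i j) || conjOK i j

theorem holds_of_checks (hc : ∀ i < 16, cubeOK i = true) (hr : ∀ i < 16, rowOK3 i = true) :
    Holds rulesData pc where
  cube i hi := by
    have h := eqv_spec (hc i hi)
    rw [val_eq, ← h, ← val_eq, val_cons, val_cons, val_cons, val_nil, mul_one, pow_succ, pow_two,
      mul_assoc]
  conj i hi j hj hij := by
    have h := List.all_eq_true.1 (hr i hi) j (List.mem_range.2 hj)
    have e : Nat.blt i j = true := by rw [Nat.blt_eq]; exact hij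
    simp only [e, Bool.not_true, Bool.false_or] at h
    rw [val_eq, ← eqv_spec h, fev_append, fev_append, fev_rev (pc_letters i)]
    simp only [pc]
    group

theorem val_mem_top (w : List ℕ) (h : ∀ k ∈ w, k < 16) : val pc w ∈ Lev rulesData pc 0 :=
  val_mem_lev w fun k hk => ⟨Nat.zero_le k, h k hk⟩

/-! ### orders from orbits -/

/-- a subgroup moving a node to `m` places has order at least `m` times that of a subgroup fixing it -/
theorem card_mul_le {A B : Subgroup Grp} (hBA : B ≤ A) (c : Nd) (hB : ∀ b ∈ B, act b c = c)
    (us : List Grp) (hu : ∀ u ∈ us, u ∈ A) (hnd : (us.map fun u => (act u c).val).Nodup) :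
    us.length * Nat.card B ≤ Nat.card A := by
  classical
  let f : Fin us.length × B → A := fun q =>
    ⟨us[q.1.val] * (q.2 : Grp), mul_mem (hu _ (List.getElem_mem _)) (hBA q.2.2)⟩
  have hf : Function.Injective f := by
    rintro ⟨i, b⟩ ⟨j, b'⟩ h
    have h' : us[i.val] * (b : Grp) = us[j.val] * (b' : Grp) := congrArg Subtype.val h
    have hij : i = j := by
      have := congrArg (fun z => (act z c).val) h'
      simp only [map_mul, Equiv.Perm.mul_apply, hB b b.2, hB b' b'.2] at this
      refine Fin.ext ((List.Nodup.getElem_inj_iff hnd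
        (hi := by simp [i.2]) (hj := by simp [j.2])).1 ?_)
      simpa using this
    subst hij
    exact Prod.ext rfl (Subtype.ext (mul_left_cancel h'))
  simpa [Nat.card_prod] using Nat.card_le_card_of_injective f hf

/-- the elements of `A` fixing some nodes -/
noncomputable def fixIn (A : Subgroup Grp) (pts : List ℕ) : Subgroup Grp := A ⊓ fixSub act pts

/-- one level: a node, with words fixing the earlier nodes and separating it -/
abbrev OLevel : Type := ℕ × List (List ℕ)

/-- the numbers of a list are different -/
def distinctB : List ℕ → Bool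
  | [] => true
  | a :: l => l.all (fun b => !(Nat.beq a b)) && distinctB l

theorem distinctB_iff : ∀ {l : List ℕ}, distinctB l = true → l.Nodup
  | [], _ => List.nodup_nil
  | a :: l, h => by
      simp only [distinctB, Bool.and_eq_true, List.all_eq_true, Bool.not_eq_true'] at h
      refine List.nodup_cons.2 ⟨fun ha => ?_, distinctB_iff h.2⟩
      have := h.1 a ha
      rw [Bool.eq_false_iff, ne_eq, Nat.beq_eq] at this
      exact this rfl

/-- the check of a chain of levels -/
noncomputable def orbOK : List OLevel → List ℕ → Bool
  | [], _ => true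
  | (c, ws) :: ls, pts => Nat.blt c 306936 &&
      ws.all (fun w => lettersOK w && pts.all fun q => Nat.beq (walkN H47.Fi24.Tab.data.T w q) q) &&
      distinctB (ws.map fun w => walkN H47.Fi24.Tab.data.T w c) && orbOK ls (c :: pts)

/-- the product of the orbit lengths -/
def orbProd : List OLevel → ℕ
  | [] => 1
  | (_, ws) :: ls => ws.length * orbProd ls

theorem orb_bound (A : Subgroup Grp) : ∀ (ls : List OLevel) (pts : List ℕ), orbOK ls pts = true →
    (∀ L ∈ ls, ∀ w ∈ L.2, fev w ∈ A) → orbProd ls ≤ Nat.card (fixIn A pts)
  | [], _, _, _ => Nat.card_pos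
  | (c, ws) :: ls, pts, h, hA => by
      simp only [orbOK, Bool.and_eq_true, List.all_eq_true, Nat.blt_eq, Nat.beq_eq] at h
      obtain ⟨⟨⟨hc, hw⟩, hnd⟩, hrest⟩ := h
      have ih := orb_bound A ls (c :: pts) hrest fun L hL => hA L (List.mem_cons_of_mem _ hL)
      set cN : Nd := ⟨c, hc⟩
      have hle : fixIn A (c :: pts) ≤ fixIn A pts := fun z hz =>
        ⟨hz.1, fun d hd => hz.2 d (List.mem_cons_of_mem _ hd)⟩
      have h1 := card_mul_le hle cN (fun b hb => hb.2 cN (by simp [cN])) (ws.map fev) ?_ ?_
      · rw [List.length_map] at h1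
        exact (Nat.mul_le_mul_left _ ih).trans h1
      · intro u hu
        obtain ⟨w, hw', rfl⟩ := List.mem_map.1 hu
        obtain ⟨hwl, hwf⟩ := hw w hw'
        exact ⟨hA _ (List.mem_cons_self) w hw', fun d hd => Fin.ext ((act_fev hwl d).trans (hwf _ hd))⟩
      · rw [List.map_map]
        have hnd' := distinctB_iff hnd
        have e : ws.map ((fun u => (act u cN).val) ∘ fev) = ws.map fun w => walkN H47.Fi24.Tab.data.T w c :=
          List.map_congr_left fun w hw' => act_fev (hw w hw').1 cN
        rwa [e]

/-- the levels as nodes and paths -/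
noncomputable def levelWords : List OLevel := levelsData.map fun L => (L.1, L.2.map flatI)

theorem levels_mem (h : levelsData.all (fun L => L.2.all fun w => w.all fun k => Nat.blt k 16) = true) :
    ∀ L ∈ levelWords, ∀ w ∈ L.2, fev w ∈ Lev rulesData pc 0 := by
  intro L hL w hw
  obtain ⟨M, hM, rfl⟩ := List.mem_map.1 hL
  obtain ⟨v, hv, rfl⟩ := List.mem_map.1 hw
  simp only [List.all_eq_true, Nat.blt_eq] at h
  rw [← inv_inv (fev (flatI v)), ← val_eq]
  exact inv_mem (val_mem_top v (h M hM v hv))

end H49.Order3.Fi24
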