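/-
The check of the tables of the generators on the small set.
-/
import Cfsg.Agent.H49.Order3.Fi24.Setup
import Cfsg.Agent.H49.Order3.Fi24.Data.Om

set_option autoImplicit false

namespace H49.Order3.Fi24

open H47.Fi24.Big (walkN)

/-- a table entry is the image of the node under the word of the generator -/
noncomputable def tabOK (i j : ℕ) : Bool :=
  Nat.blt (omNode j) 306936 && Nat.blt (step i j) 756 &&
    Nat.beq (walkN H47.Fi24.Tab.data.T (pcWords.getD i []) (omNode j)) (omNode (step i j))

end H49.Order3.Fi24
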