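/-
Soundness of the certificates.
-/
import Cfsg.Agent.H49.Order3.Fi24.CertDef
import Cfsg.Agent.H49.Order3.Fi24.TabSetup
import Cfsg.Agent.H49.Order3.Fi24.Check.Tab0
import Cfsg.Agent.H49.Order3.Fi24.Check.Tab1
import Cfsg.Agent.H49.Order3.Fi24.Check.Tab2
import Cfsg.Agent.H49.Order3.Fi24.Check.Tab3
import Cfsg.Agent.H49.Order3.Fi24.Check.Rule0
import Cfsg.Agent.H49.Order3.Fi24.Check.Rule1
import Cfsg.Agent.H49.Order3.Fi24.Check.Rule2
import Cfsg.Agent.H49.Order3.Fi24.Check.Rule3

set_option autoImplicit false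
set_option maxRecDepth 100000

namespace H49.Order3.Fi24

open H93 H93.Coset
open H47.Fi24.Big (walkN walkN_eq)
open H2.Fi23Three (Rules val val_append val_cons Holds Good Lev card_le mem_lev lev_mono val_mem_lev
  conj_mem cube_mem decomp lev_top word_concat word_mem fuse_step not_mem_of_digit sameList_iff val_word_zero IsDig)

theorem rules_shape : rulesData.shapeOK = true := by decide +kernel
theorem levels_lt :
    levelsData.all (fun L => L.2.all fun w => w.all fun k => Nat.blt k 16) = true := by decide +kernel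
theorem orb_ok : orbOK levelWords [] = true := by decide +kernel
theorem orb_prod : orbProd levelWords = 43046721 := by decide +kernel

theorem holds : Holds rulesData pc := by
  refine holds_of_checks (fun i hi => ?_) (fun i hi => ?_) <;> interval_cases i
  exacts [cube_ok0, cube_ok1, cube_ok2, cube_ok3, cube_ok4, cube_ok5, cube_ok6, cube_ok7, cube_ok8, cube_ok9,
    cube_ok10, cube_ok11, cube_ok12, cube_ok13, cube_ok14, cube_ok15, row_ok0, row_ok1, row_ok2, row_ok3,
    row_ok4, row_ok5, row_ok6, row_ok7, row_ok8, row_ok9, row_ok10, row_ok11, row_ok12, row_ok13, row_ok14,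
    row_ok15]

theorem good : Good rulesData pc := ⟨holds, rules_shape⟩

/-- the nodes fixed at the end of a chain of levels -/
def endPts : List OLevel → List ℕ → List ℕ
  | [], pts => pts
  | (c, _) :: ls, pts => endPts ls (c :: pts)

theorem orb_tail (A : Subgroup Grp) : ∀ (ls : List OLevel) (pts : List ℕ), orbOK ls pts = true →
    (∀ L ∈ ls, ∀ w ∈ L.2, fev w ∈ A) →
      orbProd ls * Nat.card (fixIn A (endPts ls pts)) ≤ Nat.card (fixIn A pts)
  | [], _, _, _ => (Nat.one_mul _).le
  | (c, ws) :: ls, pts, h, hA => by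
      simp only [orbOK, Bool.and_eq_true, List.all_eq_true, Nat.blt_eq, Nat.beq_eq] at h
      obtain ⟨⟨⟨hc, hw⟩, hnd⟩, hrest⟩ := h
      have ih := orb_tail A ls (c :: pts) hrest fun L hL => hA L (List.mem_cons_of_mem _ hL)
      set cN : Nd := ⟨c, hc⟩
      have hle : fixIn A (c :: pts) ≤ fixIn A pts := fun z hz =>
        ⟨hz.1, fun d hd => hz.2 d (List.mem_cons_of_mem _ hd)⟩
      have h1 := card_mul_le hle cN (fun b hb => hb.2 cN (by simp [cN])) (ws.map fev) ?_ ?_
      · rw [List.length_map] at h1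
        rw [orbProd, endPts, mul_assoc]
        exact (Nat.mul_le_mul_left _ ih).trans h1
      · intro u hu
        obtain ⟨w, hw', rfl⟩ := List.mem_map.1 hu
        obtain ⟨hwl, hwf⟩ := hw w hw'
        exact ⟨hA _ (List.mem_cons_self) w hw', fun d hd => Fin.ext ((act_fev hwl d).trans (hwf _ hd))⟩
      · rw [List.map_map]
        have hnd' := distinctB_iff hnd
        have e : ws.map ((fun u => (act u cN).val) ∘ fev) = ws.map fun w => walkN H47.Fi24.Tab.data.T w c :=
          List.map_congr_left fun w hw' => act_fev (hw w hw').1 cN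
        rwa [e]

theorem order_ge : 3 ^ rulesData.n ≤ Nat.card (Lev rulesData pc 0) := by
  have h := orb_bound (Lev rulesData pc 0) levelWords [] orb_ok (levels_mem levels_lt)
  rw [orb_prod] at h
  refine le_trans (le_of_eq ?_) (h.trans (Nat.card_le_card_of_injective _
    (Subgroup.inclusion_injective (inf_le_left : fixIn (Lev rulesData pc 0) [] ≤ Lev rulesData pc 0))))
  norm_num [show rulesData.n = 16 from rfl]

theorem base_ok : endPts levelWords [] = baseIdx.map omNode ∧ baseIdx.all (fun j => Nat.blt j 756) = true := by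
  decide +kernel

/-- an element of the 3-subgroup fixing the base is trivial -/
theorem eq_one_of_base {z : Grp} (hz : z ∈ Lev rulesData pc 0)
    (hf : ∀ j ∈ baseIdx, ∀ c : Nd, c.val = omNode j → act z c = c) : z = 1 := by
  have h := orb_tail (Lev rulesData pc 0) levelWords [] orb_ok (levels_mem levels_lt)
  rw [orb_prod, base_ok.1] at h
  have hle : Nat.card (fixIn (Lev rulesData pc 0) []) ≤ 43046721 :=
    (Nat.card_le_card_of_injective _ (Subgroup.inclusion_injective
      (inf_le_left : fixIn (Lev rulesData pc 0) [] ≤ Lev rulesData pc 0))).trans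
      ((card_le good).trans (le_of_eq (by norm_num [show rulesData.n = 16 from rfl])))
  set S := fixIn (Lev rulesData pc 0) (baseIdx.map omNode)
  have hS : S = ⊥ := Subgroup.card_eq_one.1 (le_antisymm (by nlinarith [h.trans hle]) Nat.card_pos)
  have hzS : z ∈ S := ⟨hz, fun c hc => by
    obtain ⟨j, hj, e⟩ := List.mem_map.1 hc
    exact hf j hj c e.symm⟩
  rwa [hS, Subgroup.mem_bot] at hzS

theorem tab_spec {i : ℕ} (hi : i < 16) {j : ℕ} (hj : j < 756) :
    omNode j < 306936 ∧ step i j < 756 ∧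
      walkN H47.Fi24.Tab.data.T (pcWords.getD i []) (omNode j) = omNode (step i j) := by
  have key : allRange 0 756 (tabOK i) = true := by
    interval_cases i
    exacts [tab_ok0, tab_ok1, tab_ok2, tab_ok3, tab_ok4, tab_ok5, tab_ok6, tab_ok7, tab_ok8, tab_ok9,
      tab_ok10, tab_ok11, tab_ok12, tab_ok13, tab_ok14, tab_ok15]
  have h := allRange_spec key j (Nat.zero_le _) (by omega)
  simp only [tabOK, Bool.and_eq_true, Nat.blt_eq, Nat.beq_eq] at h
  exact ⟨h.1.1, h.1.2, h.2⟩

theorem walk_om : ∀ (w : List ℕ), (∀ k ∈ w, k < 16) → ∀ j < 756, ∀ c : Nd, c.val = omNode j →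
    (act (fev (flatI w)) c).val = omNode (walkN step w j) ∧ walkN step w j < 756
  | [], _, j, hj, c, hc => by
      rw [show fev (flatI []) = 1 from rfl, map_one, Equiv.Perm.one_apply, walkN_eq]
      exact ⟨hc, hj⟩
  | a :: w, hw, j, hj, c, hc => by
      obtain ⟨-, h1, h2⟩ := tab_spec (hw a (by simp)) hj
      rw [show flatI (a :: w) = pcWords.getD a [] ++ flatI w by simp [flatI], fev_append, map_mul,
        Equiv.Perm.mul_apply]
      have hc' : (act (fev (pcWords.getD a [])) c).val = omNode (step a j) := by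
        rw [act_fev (pc_letters a), hc, h2]
      have ih := walk_om w (fun k hk => hw k (by simp [hk])) (step a j) h1 _ hc'
      rwa [walkN_eq, pathEnd, ← walkN_eq]

theorem sameB_spec {w u : List ℕ} (h : sameB w u = true) : val pc w = val pc u := by
  simp only [sameB, Bool.and_eq_true, List.all_eq_true, Nat.blt_eq, Nat.beq_eq] at h
  obtain ⟨⟨hw, hu⟩, hb⟩ := h
  have hb' := base_ok.2
  simp only [List.all_eq_true, Nat.blt_eq] at hb'
  refine mul_inv_eq_one.1 (eq_one_of_base (mul_mem (val_mem_top w hw) (inv_mem (val_mem_top u hu))) ?_)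
  intro j hj c hc
  rw [val_eq, val_eq, inv_inv, map_mul, map_inv, Equiv.Perm.mul_apply, Equiv.Perm.inv_eq_iff_eq]
  exact Fin.ext ((walk_om u hu j (hb' j hj) c hc).1.trans
    ((congrArg omNode (hb j hj)).symm.trans (walk_om w hw j (hb' j hj) c hc).1.symm))

/-- a certified coset contains only conjugates of the leaves -/
theorem cert_sound (LS : List (List ℕ)) :
    ∀ (t : Cert) (v : List ℕ), certOK LS t v = true → ∀ r ∈ Lev rulesData pc v.length,
      ∀ y, y = val pc (Rules.word 0 v) * r → y ^ 3 = 1 → y ≠ 1 →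
        ∃ l ∈ LS, IsConj (val pc (Rules.word 0 l)) y := by
  have hG := good
  have hn : rulesData.n = 16 := rfl
  intro t
  induction t with
  | leaf idx =>
    intro v h r hr y hy _ hy1
    simp only [certOK, Bool.and_eq_true, Bool.or_eq_true, Nat.beq_eq] at h
    rw [h.1, ← hn, lev_top, Subgroup.mem_bot] at hr
    subst hr
    rw [mul_one] at hy
    rcases h.2 with h2 | ⟨h2, h3⟩
    · refine absurd ?_ hy1
      rw [List.all_eq_true] at h2
      rw [hy, show v = List.replicate v.length 0 from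
        List.eq_replicate_iff.2 ⟨rfl, fun e he => Nat.eq_of_beq_eq_true (h2 e he)⟩, val_word_zero]
    · rw [Nat.blt_eq] at h2
      refine ⟨LS.getD idx [], ?_, ?_⟩
      · simp only [List.getD_eq_getElem?_getD, List.getElem?_eq_getElem h2, Option.getD_some,
          List.getElem_mem]
      · rw [sameList_iff h3, hy]
  | prune d =>
    intro v h r hr y hy hy3 _
    exfalso
    simp only [certOK, Bool.and_eq_true, Nat.ble_eq, Nat.beq_eq] at h
    obtain ⟨⟨⟨⟨hle, hd⟩, hdig⟩, hany⟩, hs⟩ := h
    have dv : IsDig d := fun e he => by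
      have := List.all_eq_true.1 hdig e he
      rwa [Nat.blt_eq] at this
    refine not_mem_of_digit hG order_ge (hd.trans hn.symm) dv (hle.trans hn.ge) hany ?_
    rw [← sameB_spec hs, Rules.pre, val_append, val_append]
    set x := val pc (Rules.word 0 v)
    have hx : x ∈ Lev rulesData pc 0 := word_mem (by omega)
    have e : x * x * x = y ^ 3 * (r⁻¹ * (x⁻¹ * r⁻¹ * x) * ((x * x)⁻¹ * r⁻¹ * (x * x))) := by
      rw [hy, pow_succ, pow_two]; group
    rw [← mul_assoc, e, hy3, one_mul]
    exact mul_mem (mul_mem (inv_mem hr) (conj_mem hG hx (inv_mem hr)))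
      (conj_mem hG (mul_mem hx hx) (inv_mem hr))
  | split t0 t1 t2 ih0 ih1 ih2 =>
    intro v h r hr y hy hy3 hy1
    simp only [certOK, Bool.and_eq_true, Nat.blt_eq] at h
    obtain ⟨⟨⟨hv, h0⟩, h1⟩, h2⟩ := h
    obtain ⟨e, he, s, hs, rfl⟩ := decomp hG (hv.trans_le hn.ge) hr
    have hy' : ∀ e, y = val pc (Rules.word 0 v) * (pc v.length ^ e * s) →
        y = val pc (Rules.word 0 (v ++ [e])) * s := fun e h => by
      rw [h, word_concat, Nat.zero_add, mul_assoc]
    interval_cases e
    · exact ih0 _ h0 s (by simpa using hs) y (hy' _ hy) hy3 hy1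
    · exact ih1 _ h1 s (by simpa using hs) y (hy' _ hy) hy3 hy1
    · exact ih2 _ h2 s (by simpa using hs) y (hy' _ hy) hy3 hy1
  | fuse c a w next ih =>
    intro v h r hr y hy hy3 hy1
    simp only [certOK, Bool.and_eq_true, Bool.or_eq_true, Nat.blt_eq, Nat.beq_eq, List.all_eq_true] at h
    obtain ⟨⟨⟨⟨⟨hv, hcl⟩, ha⟩, hwl⟩, hsame⟩, hnext⟩ := h
    have hv' : v.length < rulesData.n := hv.trans_le hn.ge
    obtain ⟨e, he, s, hs, rfl⟩ := decomp hG hv' hr
    set x := val pc (Rules.word 0 v) with hx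
    set q := pc v.length with hq
    set cc := val pc c with hcc
    have hcmem : cc ∈ Lev rulesData pc 0 := val_mem_lev c fun k hk => ⟨Nat.zero_le k, hcl k hk⟩
    have hone : (x * q ^ a)⁻¹ * (cc⁻¹ * x * cc) ∈ Lev rulesData pc (v.length + 1) := by
      have e1 := sameB_spec hsame
      simp only [val_append, Rules.pre, word_concat, Nat.zero_add] at e1
      rw [← hx, ← hq, ← hcc] at e1
      rw [show (x * q ^ a)⁻¹ * (cc⁻¹ * x * cc) = (cc * (x * q ^ a))⁻¹ * (x * cc) by group, e1]
      have e2 : ∀ A B C : Grp, (A * B)⁻¹ * (A * (B * C)) = C := fun A B C => by group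
      rw [e2]
      exact val_mem_lev w fun k hk => ⟨(hwl k hk).1, (hwl k hk).2⟩
    obtain ⟨m, hm⟩ : ∃ m : ℕ, (a * m) % 3 = e := by
      rcases ha with rfl | rfl <;> interval_cases e
      exacts [⟨0, rfl⟩, ⟨1, rfl⟩, ⟨2, rfl⟩, ⟨0, rfl⟩, ⟨2, rfl⟩, ⟨1, rfl⟩]
    have hstep := fuse_step hG hv' hcmem hone m
    have hdiff : (q ^ (a * m))⁻¹ * (q ^ e) ∈ Lev rulesData pc (v.length + 1) := by
      have e3 : q ^ (a * m) = q ^ e * (q ^ 3) ^ (a * m / 3) := by
        rw [← pow_mul, ← pow_add, ← hm, Nat.mod_add_div]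
      rw [e3, mul_inv_rev, mul_assoc, inv_mul_cancel, mul_one]
      exact inv_mem (pow_mem (cube_mem hG hv') _)
    set cm := cc ^ m with hcmdef
    have hcm : cm ∈ Lev rulesData pc 0 := pow_mem hcmem m
    set z := x⁻¹ * (cm * y * cm⁻¹) with hz
    have hzmem : z ∈ Lev rulesData pc (v.length + 1) := by
      have e1 : z = (cm⁻¹)⁻¹ * ((((x * q ^ (a * m))⁻¹ * (cm⁻¹ * x * cm))⁻¹) *
          ((q ^ (a * m))⁻¹ * q ^ e) * s) * cm⁻¹ := by
        rw [hz, hy]; group
      rw [e1]
      exact conj_mem hG (inv_mem hcm) (mul_mem (mul_mem (inv_mem hstep) hdiff) hs)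
    obtain ⟨l, hl, hconj⟩ := ih _ hnext z (by simpa using hzmem) (cm * y * cm⁻¹)
      (by rw [word_concat, pow_zero, mul_one, hz, mul_inv_cancel_left])
      (by rw [conj_pow, hy3, mul_one, mul_inv_cancel])
      (fun e => hy1 (conj_eq_one_iff.1 e))
    exact ⟨l, hl, hconj.trans (isConj_iff.2 ⟨cm⁻¹, by group⟩)⟩

theorem cert_top {LS : List (List ℕ)} {t : Cert} (h : certOK LS t [] = true) {y : Grp}
    (hy : y ∈ Lev rulesData pc 0) (h3 : y ^ 3 = 1) (h1 : y ≠ 1) :
    ∃ l ∈ LS, IsConj (val pc (Rules.word 0 l)) y :=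
  cert_sound LS t [] h y (by simpa using hy) y (by simp [Rules.word]) h3 h1

end H49.Order3.Fi24
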