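/-
The checks of the witnesses of the leaves and of the labels.
-/
import Cfsg.Agent.H49.Order3.Fi24.Setup
import Cfsg.Agent.H49.Order3.Fi24.Data.Leaves
import Cfsg.Agent.H49.Order3.Fi24.Data.Wit
import Cfsg.Agent.H49.Order3.Fi24.Data.Phi

set_option autoImplicit false
set_option maxRecDepth 100000

namespace H49.Order3.Fi24

open H93.Coset (force allRange)
open H47.Fi24.Big (walkN)

/-- the word of the element without fixed nodes -/
def r0W : List ℕ := (List.replicate 14 rootW).flatten

/-- the check of a fixed node -/
noncomputable def fixOne (w : List ℕ) (c : ℕ) : Bool :=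
  Nat.blt c 306936 && Nat.beq (walkN H47.Fi24.Tab.data.T w c) c

/-- the check of a conjugating word -/
noncomputable def conjOne (w : List ℕ) (s : ℕ) (c : List ℕ) : Bool :=
  lettersOK c && eqv (c.reverse ++ (bif Nat.beq s 0 then r0W else r0W ++ r0W) ++ c) w

/-- the check of one leaf -/
noncomputable def leafOne (k : ℕ) : Bool :=
  bif Nat.beq (leafWit.getD k (0, 0, [])).1 0 then
    fixOne (flatI (H2.Fi23Three.Rules.word 0 (leafVecs.getD k []))) (leafWit.getD k (0, 0, [])).2.1
  else
    conjOne (flatI (H2.Fi23Three.Rules.word 0 (leafVecs.getD k []))) (leafWit.getD k (0, 0, [])).2.1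
      (leafWit.getD k (0, 0, [])).2.2

/-- the check of a range of leaves -/
noncomputable abbrev leafRange (lo len : ℕ) : Bool := allRange lo len leafOne

/-- the label goes up by one along the root word -/
noncomputable def phiOK (c : ℕ) : Bool :=
  force (walkN H47.Fi24.Tab.data.T rootW c) fun d => Nat.beq (phi d) (Nat.mod (Nat.add (phi c) 1) 3)

end H49.Order3.Fi24
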