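/-
The class of subgroups of order three of the presented Fi24 centralising no transposition.
-/
import Cfsg.Agent.H49.Order3.Fi24.CertSound
import Cfsg.Agent.H49.Order3.Fi24.Check.Tree
import Cfsg.Agent.H49.Order3.Fi24.Check.Leaf
import Cfsg.Agent.H49.Order3.Fi24.Check.Phi

set_option autoImplicit false
set_option maxRecDepth 100000

namespace H49.Order3.Fi24

open H93 H93.Coset
open H2.Fi23Three (Rules val Lev card_le)

theorem root_ok : (lettersOK rootW && eqv (List.replicate 42 rootW).flatten []) = true := by decide +kernel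

/-- the element without fixed nodes -/
noncomputable def x0 : Grp := fev rootW ^ 14

theorem x0_eq : fev r0W = x0 := fev_replicate rootW 14

theorem x0_cube : x0 ^ 3 = 1 := by
  have h := root_ok
  rw [Bool.and_eq_true] at h
  rw [x0, ← pow_mul, ← fev_replicate, eqv_spec h.2]
  rfl

theorem label_step (c : Nd) : phi (act (fev rootW) c).val = (phi c.val + 1) % 3 := by
  have h := root_ok
  rw [Bool.and_eq_true] at h
  have h1 := allRange_spec phi_all c.val (Nat.zero_le _) (by
    have := c.2
    change c.val < 306936 at this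
    omega)
  simp only [phiOK, force_eq, Nat.beq_eq] at h1
  rw [act_fev h.1]
  exact h1

theorem label_pow (k : ℕ) (c : Nd) : phi (act (fev rootW ^ (k + 1)) c).val = (phi c.val + (k + 1)) % 3 := by
  induction k with
  | zero => rw [Nat.zero_add, pow_one]; exact label_step c
  | succ k ih =>
    rw [pow_succ' (fev rootW) (k + 1), map_mul, Equiv.Perm.mul_apply, label_step, ih]
    omega

theorem x0_moves (c : Nd) : act x0 c ≠ c := by
  intro h
  have h1 := label_pow 13 c
  have h2 := label_pow 41 c
  rw [show fev rootW ^ (13 + 1) = x0 from rfl, h] at h1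
  have h3 : phi c.val < 4 := by
    show Nat.land _ 3 < 4
    exact lt_of_le_of_lt Nat.and_le_right (by norm_num)
  omega

theorem orderOf_x0 : orderOf x0 = 3 := by
  haveI := Fact.mk Nat.prime_three
  refine orderOf_eq_prime x0_cube fun h => ?_
  exact x0_moves pa (by rw [h]; simp)

theorem leaf_cases {l : List ℕ} (hl : l ∈ leafVecs) :
    (∃ c : Nd, act (val pc (Rules.word 0 l)) c = c) ∨
      IsConj x0 (val pc (Rules.word 0 l)) ∨ IsConj x0⁻¹ (val pc (Rules.word 0 l)) := by
  obtain ⟨k, hk, rfl⟩ := List.getElem_of_mem hl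
  have hlen : leafVecs.length = 824 := by decide +kernel
  have h := allRange_spec leaf_all k (Nat.zero_le _) (by omega)
  rw [val_eq]
  simp only [leafOne, List.getD_eq_getElem?_getD, List.getElem?_eq_getElem hk, Option.getD_some] at h
  cases hb : Nat.beq (leafWit[k]?.getD (0, 0, [])).1 0 with
  | true =>
    rw [hb, cond_true] at h
    simp only [fixOne, Bool.and_eq_true, Nat.blt_eq, Nat.beq_eq] at h
    refine Or.inl ⟨⟨_, h.1⟩, ?_⟩
    rw [map_inv, Equiv.Perm.inv_eq_iff_eq]
    exact Fin.ext ((act_fev (flatI_letters _) ⟨_, h.1⟩).trans h.2).symm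
  | false =>
    rw [hb, cond_false] at h
    simp only [conjOne, Bool.and_eq_true] at h
    obtain ⟨hc, he⟩ := h
    have e := eqv_spec he
    rw [fev_append, fev_append, fev_rev hc] at e
    cases hs : Nat.beq (leafWit[k]?.getD (0, 0, [])).2.1 0 with
    | true =>
      rw [hs, cond_true, x0_eq] at e
      refine Or.inr (Or.inr (isConj_iff.2 ⟨fev (leafWit[k]?.getD (0, 0, [])).2.2, ?_⟩))
      rw [← e]; group
    | false =>
      rw [hs, cond_false, fev_append, x0_eq, ← pow_two] at e
      refine Or.inr (Or.inl (isConj_iff.2 ⟨fev (leafWit[k]?.getD (0, 0, [])).2.2, ?_⟩))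
      have hsq : x0 ^ 2 = x0⁻¹ := eq_inv_of_mul_eq_one_left (by rw [← pow_succ]; exact x0_cube)
      rw [hsq] at e
      rw [← e]; group

/-- every element of order three fixing no node is conjugate to the representative or its inverse -/
theorem conj_x0 {y : Grp} (hy : orderOf y = 3) (hfix : ∀ c : Nd, act y c ≠ c) :
    IsConj x0 y ∨ IsConj x0⁻¹ y := by
  haveI := Fact.mk Nat.prime_three
  set P := Lev rulesData pc 0
  have hP : Nat.card P = 3 ^ (Nat.card Grp).factorization 3 := by
    rw [show Nat.card P = 3 ^ rulesData.n from le_antisymm (card_le good) order_ge,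
      show rulesData.n = 16 from rfl, card_grp,
      show 306936 * (2 * 4089470473293004800) = 3 ^ 16 * 58318296029593600 * 1 by norm_num,
      mul_one, Nat.factorization_mul (by norm_num) (by norm_num), Finsupp.add_apply,
      Nat.Prime.factorization_pow Nat.prime_three, Finsupp.single_eq_same,
      Nat.factorization_eq_zero_of_not_dvd (by norm_num)]
  let S : Sylow 3 Grp := Sylow.ofCard P hP
  obtain ⟨Q, hQ⟩ := IsPGroup.exists_le_sylow
    (IsPGroup.of_card (p := 3) (n := 1) (by rw [Nat.card_zpowers, hy, pow_one]) :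
      IsPGroup 3 (Subgroup.zpowers y))
  obtain ⟨g, hg⟩ := MulAction.exists_smul_eq Grp Q S
  have hmem : g * y * g⁻¹ ∈ P := by
    have : g * y * g⁻¹ ∈ ((g • Q : Sylow 3 Grp) : Subgroup Grp) := by
      rw [Sylow.coe_subgroup_smul]
      exact ⟨y, hQ (Subgroup.mem_zpowers y), rfl⟩
    rwa [hg] at this
  have hy3 : y ^ 3 = 1 := hy ▸ pow_orderOf_eq_one y
  have hy1 : y ≠ 1 := fun e => by rw [e, orderOf_one] at hy; omega
  obtain ⟨l, hl, hconj⟩ := cert_top tree_ok hmem
    (by rw [conj_pow, hy3, mul_one, mul_inv_cancel]) (fun e => hy1 (conj_eq_one_iff.1 e))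
  have hc : IsConj (val pc (Rules.word 0 l)) y := hconj.trans (isConj_iff.2 ⟨g⁻¹, by group⟩)
  rcases leaf_cases hl with ⟨c, hfx⟩ | h | h
  · obtain ⟨b, hb⟩ := isConj_iff.1 hc
    refine absurd ?_ (hfix (act b c))
    rw [← hb, map_mul, map_mul, map_inv, Equiv.Perm.mul_apply, Equiv.Perm.mul_apply,
      ← Equiv.Perm.mul_apply (act b)⁻¹, inv_mul_cancel, Equiv.Perm.one_apply, hfx]
  · exact Or.inl (h.trans hc)
  · exact Or.inr (h.trans hc)

/-- the class of subgroups of order three centralising no transposition -/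
theorem free_class :
    Nat.card (Subgroup.zpowers x0) = 3 ∧
      D0 ∩ (Subgroup.centralizer (Subgroup.zpowers x0 : Set Grp) : Set Grp) = ∅ ∧
      ∀ X : Subgroup Grp, Nat.card X = 3 → D0 ∩ (Subgroup.centralizer (X : Set Grp) : Set Grp) = ∅ →
        ∃ g : Grp, X.map (MulAut.conj g).toMonoidHom = Subgroup.zpowers x0 := by
  refine ⟨by rw [Nat.card_zpowers, orderOf_x0], fixed_empty x0_moves, fun X hX hf => ?_⟩
  haveI := Fact.mk Nat.prime_three
  haveI : IsCyclic X := isCyclic_of_prime_card hX
  obtain ⟨⟨y, hyX⟩, hy⟩ := IsCyclic.exists_generator (α := X)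
  have hXy : X = Subgroup.zpowers y :=
    le_antisymm (fun z hz => by
      obtain ⟨k, hk⟩ := Subgroup.mem_zpowers_iff.1 (hy ⟨z, hz⟩)
      exact Subgroup.mem_zpowers_iff.2 ⟨k, congrArg Subtype.val hk⟩)
      (Subgroup.zpowers_le.2 hyX)
  have hord : orderOf y = 3 := by rw [← Nat.card_zpowers, ← hXy, hX]
  subst hXy
  have hfix : ∀ c : Nd, act y c ≠ c := fun c hc => (fixed_nonempty hc).ne_empty hf
  rcases conj_x0 hord hfix with h | h <;> obtain ⟨c, hc⟩ := isConj_iff.1 h <;> refine ⟨c⁻¹, ?_⟩ <;>
    rw [MonoidHom.map_zpowers, ← hc]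
  · congr 1; simp [MulAut.conj_apply, mul_assoc]
  · rw [← Subgroup.zpowers_inv (g := x0)]; congr 1; simp [MulAut.conj_apply, mul_assoc]

end H49.Order3.Fi24
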